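import Cfsg.Agent.H280.L16.Mod

/-!
# S5916: existence of a non-zero family (helper280)
-/

set_option autoImplicit false
set_option linter.unusedSectionVars false

namespace Cfsg.Agent.H280.L16

open Matrix Cfsg.Agent.H943.SL2Rel Cfsg.Agent.H943.SL2Mod Cfsg.Agent.H943.RepAdd

section Main

variable {k : Type*} [Field k] [CharP k 2] [IsAlgClosed k] {F : Type*} [Field F] [Fintype F] [DecidableEq F] {ι : F →+* k}
  {P : SpecialLinearGroup (Fin 2) F →* Matrix (Fin 2) (Fin 2) k} {y t0 : SpecialLinearGroup (Fin 2) F} {ζ : k}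
  {V : Type*} [AddCommGroup V] [Module k V] (ρ : Representation k (SpecialLinearGroup (Fin 2) F) V)

theorem EE_intertwine {W : Type*} [AddCommGroup W] [Module k W] (r : Representation k (SpecialLinearGroup (Fin 2) F) W)
    (Φ : W →ₗ[k] V) (h : ∀ g x, Φ (r g x) = ρ g (Φ x)) (x : W) : EE ρ (Φ x) = Φ (EE r x) := by
  rw [EE_apply, EE_apply, map_sum]
  exact Finset.sum_congr rfl fun g _ => by rw [map_smul, h]

include ι in
theorem exists_emb [FiniteDimensional k V] [CharP F 2] (hs1 : (-1 : k) ^ (Fintype.card F - 1) = 1) (K : Submodule k V) (hK : Inv ρ K) (h0 : K ≠ ⊥) :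
    ∃ (b : ℕ) (hb : b ≤ Fintype.card F - 1) (Φ : Vb ι b →ₗ[k] V), Function.Injective Φ ∧ (∀ x, Φ x ∈ K) ∧
      ∀ g x, Φ (Cfsg.Agent.H179.SLC.rb ι 2 hs1 hb g x) = ρ g (Φ x) := by
  classical
  have : Nontrivial K := Submodule.nontrivial_iff_ne_bot.2 h0
  obtain ⟨W, hW, hW0, hmin⟩ := exists_irr_sub (subRep ρ K hK)
  have hIW : Irr (subRep (subRep ρ K hK) W hW) := by
    refine ⟨Submodule.nontrivial_iff_ne_bot.2 hW0, fun W' hW' => ?_⟩
    rcases hmin (W'.map W.subtype) (Submodule.map_subtype_le _ _) (by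
      rintro g _ ⟨x, hx, rfl⟩
      exact ⟨_, hW' g x hx, rfl⟩) with h1 | h1
    · left
      rw [eq_bot_iff]
      intro x hx
      have h2 : (x : K) ∈ W'.map W.subtype := ⟨x, hx, rfl⟩
      rw [h1] at h2
      exact (Submodule.mem_bot k).2 (Subtype.ext ((Submodule.mem_bot k).1 h2))
    · right
      rw [eq_top_iff]
      intro x _
      have h2 : (x : K) ∈ W'.map W.subtype := by rw [h1]; exact x.2
      obtain ⟨y, hy, e⟩ := h2
      rwa [← Subtype.ext (p := fun z => z ∈ W) e]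
  obtain ⟨b, hb, φ, hφ⟩ := Cfsg.Agent.H179.SLC.irr_iso ι 2 (subRep (subRep ρ K hK) W hW) ι.injective hs1 hIW
  refine ⟨b, hb, K.subtype ∘ₗ W.subtype ∘ₗ φ.toLinearMap,
    (Subtype.val_injective.comp Subtype.val_injective).comp φ.injective, fun x => ((φ x : W) : K).2, fun g x => ?_⟩
  show (((φ (Cfsg.Agent.H179.SLC.rb ι 2 hs1 hb g x) : W) : K) : V) = ρ g (((φ x : W) : K) : V)
  rw [hφ]
  rfl

/-- **existence of a non-zero family** -/
theorem exists_fam [FiniteDimensional k V] (D : PDat ι P y t0 ζ) (L : Submodule k V) (hL : Inv ρ L)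
    (hX : ∀ v ∈ L, (∀ g, ρ g v = v) → v = 0) {v : V} (hvL : v ∈ L) (hv : ρ y v = v) (hv0 : v ≠ 0) : HasFam P ρ L := by
  classical
  have hF := D.card
  have hc2 : CharP F 2 := F_char hF
  have h2 : (2 : k) = 0 := k_two hF
  have hneg : (-1 : k) = 1 := by
    have : (1 : k) + 1 = 0 := by rw [one_add_one_eq_two, h2]
    exact neg_eq_of_add_eq_zero_left this
  have hs1 : (-1 : k) ^ (Fintype.card F - 1) = 1 := by rw [hneg, one_pow]
  have hKL : Inv ρ (L ⊓ LinearMap.ker (EE ρ)) := fun g x hx => ⟨hL g x hx.1, inv_ker ρ g x hx.2⟩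
  have hK0 : L ⊓ LinearMap.ker (EE ρ) ≠ ⊥ := by
    intro h
    have h1 : v ∈ L ⊓ LinearMap.ker (EE ρ) := ⟨hvL, LinearMap.mem_ker.2 (EE_fix ρ D hv)⟩
    rw [h] at h1
    exact hv0 ((Submodule.mem_bot k).1 h1)
  obtain ⟨b, hb, Φ, hinj, hmem, hΦ⟩ := exists_emb (ι := ι) ρ hs1 _ hKL hK0
  have hmb : mon ι b b ∈ Vb ι b := Cfsg.Agent.H179.SLC.Db_le ι 2 hs1 hb (mon_mem_Db ι b)
  have hmb0 : (⟨_, hmb⟩ : Vb ι b) ≠ 0 := fun h => mon_ne_zero ι b (congrArg Subtype.val h)
  -- not trivial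
  have hb0 : b ≠ 0 := by
    rintro rfl
    apply hmb0
    apply hinj
    rw [map_zero]
    refine hX _ (hmem _).1 fun g => ?_
    rw [← hΦ]
    congr 1
    apply Subtype.ext
    funext z
    show ι _ ^ 0 * ι _ ^ (0 - 0) = ι _ ^ 0 * ι _ ^ (0 - 0)
    rw [Nat.sub_zero, pow_zero, pow_zero, pow_zero, pow_zero]
  -- not the Steinberg module
  have hb15 : b ≠ 15 := by
    rintro rfl
    have h1 : EE ρ (Φ ⟨_, hmb⟩) = 0 := (hmem _).2
    rw [EE_intertwine ρ _ Φ hΦ, EE_borel _ hF] at h1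
    · have h2' : SS (Cfsg.Agent.H179.SLC.rb ι 2 hs1 hb) ⟨_, hmb⟩ = 0 := hinj (by rw [h1, map_zero])
      have h3 : SS (fRep k F) (mon ι 15 15) = 0 := by
        have h4 := congrArg Subtype.val h2'
        rw [SS_apply, Submodule.coe_sum] at h4
        rw [SS_apply]
        exact h4
      have h5 := Cfsg.Agent.H179.SLC.SS_mon_eq ι 2 hs1
      rw [hF] at h5
      rw [h5] at h3
      rcases smul_eq_zero.1 h3 with h6 | h6
      · rw [hneg] at h6
        exact one_ne_zero h6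
      · exact mon_ne_zero ι 15 h6
    · intro t
      apply Subtype.ext
      exact (Cfsg.Agent.H179.SLC.good_Db ι 2 hs1 hb).ufix t _ (mon_mem_Db ι _)
    · intro a
      apply Subtype.ext
      show fRep k F (h a) (mon ι 15 15) = mon ι 15 15
      rw [h_mon, Nat.sub_self, pow_zero, mul_one, ← map_pow]
      have : (a : F) ^ 15 = 1 := by
        have h1 := FiniteField.pow_card_sub_one_eq_one (a : F) a.ne_zero
        rwa [hF] at h1
      rw [this, map_one, one_smul]
  have hle : b ≤ 15 := by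
    have := hb
    rw [hF] at this
    exact this
  have hrg : ∀ x ∈ LinearMap.range Φ, x ∈ L := by
    rintro _ ⟨x, rfl⟩
    exact (hmem x).1
  have key1 : ∀ i < 4, b = 2 ^ i → HasFam P ρ L := by
    rintro i hi rfl
    obtain ⟨w, hw, hw0, hwL⟩ := fam1 ρ D hs1 hb Φ hinj hΦ (by
      interval_cases i <;> intro m hm <;> fin_cases hm <;> exact mem_Bb_of (by norm_num) (by decide))
    exact Or.inl ⟨i, hi, w, hw, hw0, fun a => hrg _ (hwL a)⟩
  have key2 : ∀ i j, i < j → j < 4 → b = 2 ^ i + 2 ^ j → HasFam P ρ L := by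
    rintro i j hij hj rfl
    obtain ⟨w, hw, hw0, hwL⟩ := fam2 ρ D hs1 hb Φ hinj hΦ (by
      interval_cases j <;> interval_cases i <;> intro m hm <;> fin_cases hm <;>
        exact mem_Bb_of (by norm_num) (by decide))
    exact Or.inr (Or.inl ⟨i, j, hij, hj, w, hw, hw0, fun a c => hrg _ (hwL a c)⟩)
  have key3 : ∀ i j l, i < j → j < l → l < 4 → b = 2 ^ i + 2 ^ j + 2 ^ l → HasFam P ρ L := by
    rintro i j l hij hjl hl rfl
    obtain ⟨w, hw, hw0, hwL⟩ := fam3 ρ D hs1 hb Φ hinj hΦ (by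
      interval_cases l <;> interval_cases j <;> interval_cases i <;> intro m hm <;> fin_cases hm <;>
        exact mem_Bb_of (by norm_num) (by decide))
    exact Or.inr (Or.inr ⟨i, j, l, hij, hjl, hl, w, hw, hw0, fun a c e => hrg _ (hwL a c e)⟩)
  have hcase : b = 1 ∨ b = 2 ∨ b = 3 ∨ b = 4 ∨ b = 5 ∨ b = 6 ∨ b = 7 ∨ b = 8 ∨ b = 9 ∨ b = 10 ∨ b = 11 ∨ b = 12 ∨
      b = 13 ∨ b = 14 := by omega
  rcases hcase with h | h | h | h | h | h | h | h | h | h | h | h | h | h
  · exact key1 0 (by norm_num) h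
  · exact key1 1 (by norm_num) h
  · exact key2 0 1 (by norm_num) (by norm_num) h
  · exact key1 2 (by norm_num) h
  · exact key2 0 2 (by norm_num) (by norm_num) h
  · exact key2 1 2 (by norm_num) (by norm_num) h
  · exact key3 0 1 2 (by norm_num) (by norm_num) (by norm_num) h
  · exact key1 3 (by norm_num) h
  · exact key2 0 3 (by norm_num) (by norm_num) h
  · exact key2 1 3 (by norm_num) (by norm_num) h
  · exact key3 0 1 3 (by norm_num) (by norm_num) (by norm_num) h
  · exact key2 2 3 (by norm_num) (by norm_num) h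
  · exact key3 0 2 3 (by norm_num) (by norm_num) (by norm_num) h
  · exact key3 1 2 3 (by norm_num) (by norm_num) (by norm_num) h

end Main

end Cfsg.Agent.H280.L16
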