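import Cfsg.Agent.H943.SL2Type

/-!
# S5916: the representation `P` in the eigenbasis of the element of order 17 (helper280)

`P = A⁻¹ · (s.map ι) · A` with `A = !![1, ζ; ζ, 1]`: `P y = diag(ζ, ζ⁻¹)`, `P t0 = !![0, 1; 1, 0]`,
`(P s i j) ^ 16 = P s (1 - i) (1 - j)`.
-/

set_option autoImplicit false

namespace Cfsg.Agent.H280.L16

open Matrix

/-- the properties of `P` -/
structure PDat {k F : Type*} [Field k] [Field F] [Fintype F] (ι : F →+* k)
    (P : SpecialLinearGroup (Fin 2) F →* Matrix (Fin 2) (Fin 2) k) (y t0 : SpecialLinearGroup (Fin 2) F) (ζ : k) : Prop where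
  card : Fintype.card F = 16
  prim : IsPrimitiveRoot ζ 17
  y00 : P y 0 0 = ζ
  y01 : P y 0 1 = 0
  y10 : P y 1 0 = 0
  y11 : P y 1 1 = ζ⁻¹
  t : P t0 = !![0, 1; 1, 0]
  fr : ∀ s i j, (P s i j) ^ 16 = P s (1 - i) (1 - j)
  det : ∀ s, P s 0 0 * P s 1 1 - P s 0 1 * P s 1 0 = 1
  /-- the change of basis -/
  conj : ∃ A B : Matrix (Fin 2) (Fin 2) k, A * B = 1 ∧ B * A = 1 ∧
    ∀ s : SpecialLinearGroup (Fin 2) F, P s = B * ((s : Matrix (Fin 2) (Fin 2) F).map ι) * A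

section

variable {k : Type*} [Field k] [CharP k 2] {F : Type*} [Field F] [Fintype F] (hF : Fintype.card F = 16)
  (ι : F →+* k) {ζ : k} (hζ : IsPrimitiveRoot ζ 17)

/-- conjugation as a homomorphism -/
def PP (A B : Matrix (Fin 2) (Fin 2) k) (h : A * B = 1) (h' : B * A = 1) :
    SpecialLinearGroup (Fin 2) F →* Matrix (Fin 2) (Fin 2) k where
  toFun s := B * ((s : Matrix (Fin 2) (Fin 2) F).map ι) * A
  map_one' := by
    show B * ((1 : Matrix (Fin 2) (Fin 2) F).map ι) * A = 1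
    rw [Matrix.map_one ι (map_zero ι) (map_one ι), Matrix.mul_one, h']
  map_mul' s t := by
    show B * ((s.1 * t.1 : Matrix (Fin 2) (Fin 2) F).map ι) * A = B * (s.1.map ι) * A * (B * (t.1.map ι) * A)
    rw [Matrix.map_mul]
    calc B * ((s : Matrix (Fin 2) (Fin 2) F).map ι * (t : Matrix (Fin 2) (Fin 2) F).map ι) * A =
        B * ((s : Matrix (Fin 2) (Fin 2) F).map ι) * 1 * ((t : Matrix (Fin 2) (Fin 2) F).map ι) * A := by
          simp only [Matrix.mul_one, Matrix.mul_assoc]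
      _ = _ := by rw [← h]; simp only [Matrix.mul_assoc]

include hF hζ in
theorem exists_P {c : F} (hc : ι c = ζ + ζ⁻¹) {y t0 : SpecialLinearGroup (Fin 2) F}
    (hy : (y : Matrix (Fin 2) (Fin 2) F) = !![0, 1; 1, c]) (ht : (t0 : Matrix (Fin 2) (Fin 2) F) = !![0, 1; 1, 0]) :
    ∃ P : SpecialLinearGroup (Fin 2) F →* Matrix (Fin 2) (Fin 2) k, PDat ι P y t0 ζ := by
  have h2 : (2 : k) = 0 := by
    have := CharP.cast_eq_zero k 2
    exact_mod_cast this
  have hadd : ∀ x : k, x + x = 0 := fun x => by rw [← two_mul, h2, zero_mul]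
  have hneg : ∀ x : k, -x = x := fun x => neg_eq_of_add_eq_zero_left (hadd x)
  have hζ0 : ζ ≠ 0 := hζ.ne_zero (by norm_num)
  have hq : 1 + ζ * ζ ≠ 0 := by
    intro h
    have h1 : ζ ^ 2 = 1 := by
      have : ζ * ζ = -1 := by rw [← add_eq_zero_iff_eq_neg, add_comm]; exact h
      rw [pow_two, this, hneg]
    have := (hζ.pow_eq_one_iff_dvd 2).1 h1
    omega
  set q : k := (1 + ζ * ζ)⁻¹ with hqd
  set A : Matrix (Fin 2) (Fin 2) k := !![1, ζ; ζ, 1] with hA
  set B : Matrix (Fin 2) (Fin 2) k := !![q, q * ζ; q * ζ, q] with hB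
  have hq1 : q * (1 + ζ * ζ) = 1 := inv_mul_cancel₀ hq
  have hBA : B * A = 1 := by
    rw [hA, hB]
    ext i j
    fin_cases i <;> fin_cases j <;> simp [Matrix.mul_apply, Fin.sum_univ_two]
    · rw [← hq1]; ring
    · rw [mul_comm]; exact hadd _
    · exact hadd _
    · rw [← hq1]; ring
  have hAB : A * B = 1 := mul_eq_one_comm.1 hBA
  have h16 : ζ ^ 16 = ζ⁻¹ := by
    apply eq_inv_of_mul_eq_one_left
    rw [← pow_succ]
    exact hζ.pow_eq_one
  have hP : ∀ s, PP ι A B hAB hBA s = B * ((s : Matrix (Fin 2) (Fin 2) F).map ι) * A := fun _ => rfl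
  have hy' : PP ι A B hAB hBA y = !![ζ, 0; 0, ζ⁻¹] := by
    have e1 : ((y : Matrix (Fin 2) (Fin 2) F).map ι) * A = A * !![ζ, 0; 0, ζ⁻¹] := by
      rw [hy, hA]
      ext i j
      fin_cases i <;> fin_cases j <;> simp [Matrix.mul_apply, Fin.sum_univ_two, hc, hζ0]
      · have : 1 + (ζ + ζ⁻¹) * ζ = (1 + 1) + ζ * ζ := by
          rw [add_mul, inv_mul_cancel₀ hζ0]; ring
        rw [this, hadd, zero_add]
      · rw [← add_assoc, hadd, zero_add]
    rw [hP, Matrix.mul_assoc, e1, ← Matrix.mul_assoc, hBA, Matrix.one_mul]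
  have ht' : PP ι A B hAB hBA t0 = !![0, 1; 1, 0] := by
    have e1 : ((t0 : Matrix (Fin 2) (Fin 2) F).map ι) * A = A * !![0, 1; 1, 0] := by
      rw [ht, hA]
      ext i j
      fin_cases i <;> fin_cases j <;> simp [Matrix.mul_apply, Fin.sum_univ_two]
    rw [hP, Matrix.mul_assoc, e1, ← Matrix.mul_assoc, hBA, Matrix.one_mul]
  refine ⟨PP ι A B hAB hBA, hF, hζ, ?_, ?_, ?_, ?_, ht', fun s i j => ?_, fun s => ?_, A, B, hAB, hBA, fun s => rfl⟩
  · rw [hy']; rfl
  · rw [hy']; rfl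
  · rw [hy']; rfl
  · rw [hy']; rfl
  · -- the Frobenius map
    have hpow : ∀ x : F, (ι x) ^ 16 = ι x := fun x => by
      rw [← map_pow, ← hF, FiniteField.pow_card]
    have hadd16 : ∀ x y : k, (x + y) ^ 16 = x ^ 16 + y ^ 16 := fun x y => by
      have : (16 : ℕ) = 2 ^ 4 := by norm_num
      rw [this, add_pow_char_pow]
    have hq16 : q ^ 16 = q * ζ * ζ := by
      have e1 : (1 + ζ * ζ) ^ 16 = (1 + ζ * ζ) * (ζ⁻¹ * ζ⁻¹) := by
        rw [hadd16, mul_pow, h16, one_pow]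
        field_simp
        ring
      rw [hqd, inv_pow, e1, mul_inv, mul_inv, inv_inv, mul_assoc]
    have hent : ∀ s : SpecialLinearGroup (Fin 2) F, ∀ i j, PP ι A B hAB hBA s i j =
      (B i 0 * ι (s.1 0 0) + B i 1 * ι (s.1 1 0)) * A 0 j + (B i 0 * ι (s.1 0 1) + B i 1 * ι (s.1 1 1)) * A 1 j := by
      intro s i j
      rw [hP, Matrix.mul_apply, Fin.sum_univ_two, Matrix.mul_apply, Fin.sum_univ_two, Matrix.mul_apply, Fin.sum_univ_two]
      rfl
    rw [hent, hent]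
    have ha : ∀ i j, (A i j) ^ 16 = ζ⁻¹ * A i (1 - j) := by
      intro i j
      rw [hA]
      fin_cases i <;> fin_cases j <;> simp [h16, hζ0]
    have hb : ∀ i j, (B i j) ^ 16 = ζ * B (1 - i) j := by
      intro i j
      rw [hB]
      fin_cases i <;> fin_cases j <;> simp [mul_pow, h16, hq16, hζ0] <;> field_simp
    rw [hadd16, mul_pow, mul_pow, hadd16, hadd16, mul_pow, mul_pow, mul_pow, mul_pow, hpow, hpow, hpow, hpow,
      ha, ha, hb, hb]
    have hz : ζ * ζ⁻¹ = 1 := mul_inv_cancel₀ hζ0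
    linear_combination ((B (1 - i) 0 * ι (s.1 0 0) + B (1 - i) 1 * ι (s.1 1 0)) * A 0 (1 - j) +
      (B (1 - i) 0 * ι (s.1 0 1) + B (1 - i) 1 * ι (s.1 1 1)) * A 1 (1 - j)) * hz
  · have e1 : (PP ι A B hAB hBA s).det = 1 := by
      rw [hP, Matrix.det_mul, Matrix.det_mul]
      have e2 : ((s : Matrix (Fin 2) (Fin 2) F).map ι).det = 1 := by
        have := (RingHom.map_det ι (s : Matrix (Fin 2) (Fin 2) F)).symm
        rw [s.2, map_one] at this
        exact this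
      rw [e2, mul_one, ← Matrix.det_mul, hBA, Matrix.det_one]
    rw [Matrix.det_fin_two] at e1
    exact e1

end

end Cfsg.Agent.H280.L16
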