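import Cfsg.Agent.H280.L16.Ste
import Cfsg.Agent.H280.L16.Pdef

/-!
# S5916: `EE v = 0` for the vectors fixed by the element of order 17 (helper280)
-/

set_option autoImplicit false
set_option linter.unusedSectionVars false

namespace Cfsg.Agent.H280.L16

open Matrix Cfsg.Agent.H943.SL2Rel Cfsg.Agent.H943.SL2Mod

variable {k : Type*} [Field k] [CharP k 2] {F : Type*} [Field F] [Fintype F] [DecidableEq F] {ι : F →+* k}
  {P : SpecialLinearGroup (Fin 2) F →* Matrix (Fin 2) (Fin 2) k} {y t0 : SpecialLinearGroup (Fin 2) F} {ζ : k}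

theorem PDat.trace (D : PDat ι P y t0 ζ) (g : SpecialLinearGroup (Fin 2) F) :
    ι (g.1 0 0 + g.1 1 1) = P g 0 0 + P g 1 1 := by
  obtain ⟨A, B, hAB, hBA, hP⟩ := D.conj
  have h1 : (P g).trace = ((g : Matrix (Fin 2) (Fin 2) F).map ι).trace := by
    rw [hP, Matrix.trace_mul_comm, ← Matrix.mul_assoc, hAB, Matrix.one_mul]
  rw [Matrix.trace_fin_two, Matrix.trace_fin_two] at h1
  rw [h1, map_add]
  rfl

theorem PDat.yP (D : PDat ι P y t0 ζ) : P y = !![ζ, 0; 0, ζ⁻¹] := by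
  ext i j
  fin_cases i <;> fin_cases j
  · exact D.y00
  · exact D.y01
  · exact D.y10
  · exact D.y11

theorem PDat.zeta_ne (D : PDat ι P y t0 ζ) : ζ ≠ 0 := D.prim.ne_zero (by norm_num)

theorem PDat.yinvP (D : PDat ι P y t0 ζ) : P y⁻¹ = !![ζ⁻¹, 0; 0, ζ] := by
  have h0 := D.zeta_ne
  have h1 : P y * !![ζ⁻¹, 0; 0, ζ] = 1 := by
    rw [D.yP]
    ext i j
    fin_cases i <;> fin_cases j <;> simp [Matrix.mul_apply, Fin.sum_univ_two, h0]
  have h2 : P y⁻¹ * P y = 1 := by rw [← map_mul, inv_mul_cancel, map_one]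
  calc P y⁻¹ = P y⁻¹ * (P y * !![ζ⁻¹, 0; 0, ζ]) := by rw [h1, Matrix.mul_one]
    _ = !![ζ⁻¹, 0; 0, ζ] := by rw [← Matrix.mul_assoc, h2, Matrix.one_mul]

theorem PDat.yinv_pow (D : PDat ι P y t0 ζ) (j : ℕ) : P (y⁻¹ ^ j) = !![(ζ⁻¹) ^ j, 0; 0, ζ ^ j] := by
  induction j with
  | zero =>
    rw [pow_zero, map_one, pow_zero, pow_zero]
    ext i j
    fin_cases i <;> fin_cases j <;> rfl
  | succ j ih =>
    rw [pow_succ, map_mul, ih, D.yinvP]
    ext i j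
    fin_cases i <;> fin_cases j <;> simp [Matrix.mul_apply, Fin.sum_univ_two, pow_succ]

theorem PDat.trace_pow (D : PDat ι P y t0 ζ) (g : SpecialLinearGroup (Fin 2) F) (j : ℕ) :
    ι ((g * y⁻¹ ^ j).1 0 0 + (g * y⁻¹ ^ j).1 1 1) = P g 0 0 * (ζ⁻¹) ^ j + P g 1 1 * ζ ^ j := by
  rw [D.trace, map_mul, D.yinv_pow, Matrix.mul_apply, Matrix.mul_apply, Fin.sum_univ_two, Fin.sum_univ_two]
  simp

variable {V : Type*} [AddCommGroup V] [Module k V] (ρ : Representation k (SpecialLinearGroup (Fin 2) F) V)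

/-- **`EE v = 0`** -/
theorem EE_fix (D : PDat ι P y t0 ζ) {v : V} (hv : ρ y v = v) : EE ρ v = 0 := by
  classical
  have h2 : (2 : k) = 0 := by
    have := CharP.cast_eq_zero k 2
    exact_mod_cast this
  have h17 : ((17 : ℕ) : k) = 1 := by
    have : ((17 : ℕ) : k) = (2 : k) * 8 + 1 := by norm_num
    rw [this, h2, zero_mul, zero_add]
  have hvj : ∀ j : ℕ, ρ (y ^ j) v = v := by
    intro j
    induction j with
    | zero => rw [pow_zero, map_one]; rfl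
    | succ j ih => rw [pow_succ, ← apply_mul, hv, ih]
  have e1 : ∀ j : ℕ, EE ρ v = ∑ g : SpecialLinearGroup (Fin 2) F, chi k (g * y⁻¹ ^ j) • ρ g v := by
    intro j
    rw [EE_apply]
    refine Fintype.sum_equiv (Equiv.mulRight (y ^ j)) _ _ fun g => ?_
    show chi k g • ρ g v = chi k (g * y ^ j * y⁻¹ ^ j) • ρ (g * y ^ j) v
    rw [inv_pow, mul_inv_cancel_right, ← apply_mul, hvj]
  have e2 : ∑ j ∈ Finset.range 17, EE ρ v = EE ρ v := by
    rw [Finset.sum_const, Finset.card_range, ← Nat.cast_smul_eq_nsmul k, h17, one_smul]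
  rw [← e2, Finset.sum_congr rfl fun j _ => e1 j, Finset.sum_comm]
  refine Finset.sum_eq_zero fun g _ => ?_
  rw [← Finset.sum_smul]
  have e3 : ∀ j ∈ Finset.range 17, chi k (g * y⁻¹ ^ j) =
      if P g 0 0 * (ζ⁻¹) ^ j + P g 1 1 * ζ ^ j = 0 then (0 : k) else 1 := by
    intro j _
    unfold chi
    rw [← D.trace_pow]
    have e4 : ((g * y⁻¹ ^ j).1 0 0 + (g * y⁻¹ ^ j).1 1 1 = 0) ↔ (ι ((g * y⁻¹ ^ j).1 0 0 + (g * y⁻¹ ^ j).1 1 1) = 0) :=
      (map_eq_zero ι).symm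
    by_cases h : (g * y⁻¹ ^ j).1 0 0 + (g * y⁻¹ ^ j).1 1 1 = 0
    · rw [if_pos h, if_pos (e4.1 h)]
    · rw [if_neg h, if_neg fun h' => h (e4.2 h')]
  rw [Finset.sum_congr rfl e3]
  have hd : P g 1 1 = P g 0 0 ^ 16 := (D.fr g 0 0).symm
  have ha : P g 0 0 ^ 256 = P g 0 0 := by
    have h3 : P g 1 1 ^ 16 = P g 0 0 := D.fr g 1 1
    rw [hd, ← pow_mul] at h3
    exact h3
  rw [count D.prim ha hd, zero_smul]

end Cfsg.Agent.H280.L16
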