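import Cfsg.Agent.H943.SL2Type

/-!
# S5916: the Steinberg module is not needed (helper280)

`EE = ∑ ρ g` over the `g` with trace `≠ 0` commutes with `SL(2, 16)`, is `0` on the vectors fixed by an element of order 17
(`EE_fix`), and is `SS` on the vectors fixed by the Borel subgroup (`EE_borel`).
-/

set_option autoImplicit false
set_option linter.unusedSectionVars false

namespace Cfsg.Agent.H280.L16

open Matrix Cfsg.Agent.H943.SL2Rel Cfsg.Agent.H943.SL2Mod

variable {k : Type*} [Field k] {F : Type*} [Field F] [Fintype F] [DecidableEq F]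

noncomputable instance instFintypeSL : Fintype (SpecialLinearGroup (Fin 2) F) := Fintype.ofFinite _

/-! ### sums over the group -/

/-- the parametrisation -/
def bru : (Fˣ × F) ⊕ (F × Fˣ × F) → SpecialLinearGroup (Fin 2) F
  | Sum.inl x => h x.1 * u x.2
  | Sum.inr x => u x.1 * h x.2.1 * w * u x.2.2

theorem e00_hu (a : Fˣ) (t : F) : (h a * u t).1 0 0 = a := by
  show (!![(a : F), 0; 0, (a : F)⁻¹] * !![1, t; 0, 1]) 0 0 = a
  rw [Matrix.mul_fin_two]; simp

theorem e01_hu (a : Fˣ) (t : F) : (h a * u t).1 0 1 = a * t := by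
  show (!![(a : F), 0; 0, (a : F)⁻¹] * !![1, t; 0, 1]) 0 1 = _
  rw [Matrix.mul_fin_two]; simp

theorem e10_hu (a : Fˣ) (t : F) : (h a * u t).1 1 0 = 0 := by
  show (!![(a : F), 0; 0, (a : F)⁻¹] * !![1, t; 0, 1]) 1 0 = _
  rw [Matrix.mul_fin_two]; simp

theorem mat_uhwu (s : F) (a : Fˣ) (t : F) : (u s * h a * w * u t).1 =
    !![-(s * (a : F)⁻¹), a - s * (a : F)⁻¹ * t; -(a : F)⁻¹, -((a : F)⁻¹ * t)] := by
  show !![1, s; 0, 1] * !![(a : F), 0; 0, (a : F)⁻¹] * !![0, 1; -1, 0] * !![1, t; 0, 1] = _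
  simp only [Matrix.mul_fin_two]
  ext i j
  fin_cases i <;> fin_cases j <;> simp <;> ring

theorem bru_inj : Function.Injective (bru : (Fˣ × F) ⊕ (F × Fˣ × F) → SpecialLinearGroup (Fin 2) F) := by
  rintro (⟨a, t⟩ | ⟨s, a, t⟩) (⟨a', t'⟩ | ⟨s', a', t'⟩) e
  · have e' : h a * u t = h a' * u t' := e
    have h1 : (a : F) = a' := by rw [← e00_hu a t, e', e00_hu]
    have h2 : a = a' := Units.ext h1
    subst h2
    have h3 : (a : F) * t = a * t' := by rw [← e01_hu a t, e', e01_hu]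
    have h4 : t = t' := mul_left_cancel₀ a.ne_zero h3
    rw [h4]
  · exfalso
    have e' : h a * u t = u s' * h a' * w * u t' := e
    have h1 : (0 : F) = -(a' : F)⁻¹ := by
      rw [← e10_hu a t, e', mat_uhwu]; rfl
    exact inv_ne_zero a'.ne_zero (neg_eq_zero.1 h1.symm)
  · exfalso
    have e' : u s * h a * w * u t = h a' * u t' := e
    have h1 : (0 : F) = -(a : F)⁻¹ := by
      rw [← e10_hu a' t', ← e', mat_uhwu]; rfl
    exact inv_ne_zero a.ne_zero (neg_eq_zero.1 h1.symm)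
  · have e' : (u s * h a * w * u t).1 = (u s' * h a' * w * u t').1 := congrArg Subtype.val e
    rw [mat_uhwu, mat_uhwu] at e'
    have h1 : -(a : F)⁻¹ = -(a' : F)⁻¹ := congrFun (congrFun e' 1) 0
    have h2 : a = a' := Units.ext (inv_injective (neg_injective h1))
    subst h2
    have ha := inv_ne_zero a.ne_zero
    have h3 : -(s * (a : F)⁻¹) = -(s' * (a : F)⁻¹) := congrFun (congrFun e' 0) 0
    have h4 : s = s' := mul_right_cancel₀ ha (neg_injective h3)
    have h5 : -((a : F)⁻¹ * t) = -((a : F)⁻¹ * t') := congrFun (congrFun e' 1) 1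
    have h6 : t = t' := mul_left_cancel₀ ha (neg_injective h5)
    rw [h4, h6]

theorem bru_surj : Function.Surjective (bru : (Fˣ × F) ⊕ (F × Fˣ × F) → SpecialLinearGroup (Fin 2) F) := by
  intro g
  rcases bruhat g with ⟨a, t, rfl⟩ | ⟨s, a, t, rfl⟩
  · exact ⟨Sum.inl (a, t), rfl⟩
  · exact ⟨Sum.inr (s, a, t), rfl⟩

theorem sum_bruhat {M : Type*} [AddCommMonoid M] (f : SpecialLinearGroup (Fin 2) F → M) :
    ∑ g, f g = ∑ a : Fˣ, ∑ t : F, f (h a * u t) + ∑ s : F, ∑ a : Fˣ, ∑ t : F, f (u s * h a * w * u t) := by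
  rw [← Fintype.sum_bijective bru ⟨bru_inj, bru_surj⟩ (fun x => f (bru x)) f fun _ => rfl, Fintype.sum_sum_type,
    Fintype.sum_prod_type, Fintype.sum_prod_type]
  congr 1
  refine Finset.sum_congr rfl fun s _ => ?_
  rw [Fintype.sum_prod_type]
  rfl

/-! ### the central element -/

/-- the characteristic function of trace `≠ 0` -/
def chi (k : Type*) [Field k] (g : SpecialLinearGroup (Fin 2) F) : k := if g.1 0 0 + g.1 1 1 = 0 then 0 else 1

theorem chi_eq (g : SpecialLinearGroup (Fin 2) F) : chi k g = if g.1.trace = 0 then 0 else 1 := by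
  unfold chi
  rw [Matrix.trace_fin_two]

theorem chi_conj (g x : SpecialLinearGroup (Fin 2) F) : chi k (x * g * x⁻¹) = chi k g := by
  rw [chi_eq, chi_eq]
  have h1 : (x * g * x⁻¹).1.trace = g.1.trace := by
    rw [show (x * g * x⁻¹).1 = x.1 * g.1 * (x⁻¹).1 from rfl, Matrix.trace_mul_comm, ← Matrix.mul_assoc]
    have h2 : (x⁻¹).1 * x.1 = 1 := by
      have h3 : (x⁻¹ * x).1 = 1 := by rw [inv_mul_cancel]; rfl
      exact h3
    rw [h2, Matrix.one_mul]
  rw [h1]

variable {V : Type*} [AddCommGroup V] [Module k V] (ρ : Representation k (SpecialLinearGroup (Fin 2) F) V)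

/-- `∑ ρ g`, trace `≠ 0` -/
noncomputable def EE : V →ₗ[k] V := ∑ g : SpecialLinearGroup (Fin 2) F, chi k g • ρ g

theorem EE_apply (v : V) : EE ρ v = ∑ g : SpecialLinearGroup (Fin 2) F, chi k g • ρ g v := by
  unfold EE
  rw [LinearMap.sum_apply]
  rfl

theorem EE_comm (x : SpecialLinearGroup (Fin 2) F) (v : V) : EE ρ (ρ x v) = ρ x (EE ρ v) := by
  rw [EE_apply, EE_apply, map_sum]
  refine Fintype.sum_equiv (MulAut.conj x⁻¹).toEquiv _ _ fun g => ?_
  show chi k g • ρ g (ρ x v) = ρ x (chi k (x⁻¹ * g * x⁻¹⁻¹) • ρ (x⁻¹ * g * x⁻¹⁻¹) v)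
  rw [chi_conj, map_smul, apply_mul, apply_mul]
  congr 3
  group

/-- the kernel of `EE` is invariant -/
theorem inv_ker : Inv ρ (LinearMap.ker (EE ρ)) := by
  intro g x hx
  rw [LinearMap.mem_ker] at hx ⊢
  rw [EE_comm, hx, map_zero]

section Borel

variable [CharP k 2] (hF : Fintype.card F = 16)
include hF

theorem k_two : (2 : k) = 0 := by
  have := CharP.cast_eq_zero k 2
  exact_mod_cast this

theorem F_char : CharP F 2 := by
  obtain ⟨n, hp, h1⟩ := FiniteField.card F (ringChar F)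
  have h2 : ringChar F ∣ 16 := by rw [← hF, h1]; exact dvd_pow_self _ n.2.ne'
  have h3 : ringChar F = 2 := by
    have h4 : ringChar F ∣ 2 ^ 4 := by norm_num; exact h2
    exact (Nat.prime_dvd_prime_iff_eq hp Nat.prime_two).1 (hp.dvd_of_dvd_pow h4)
  rw [← h3]
  exact ringChar.charP F

/-- **`EE = SS` on the vectors fixed by the Borel subgroup** -/
theorem EE_borel {d : V} (hu : ∀ t : F, ρ (u t) d = d) (hh : ∀ a : Fˣ, ρ (h a) d = d) : EE ρ d = SS ρ d := by
  have h2 : (2 : k) = 0 := k_two hF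
  have h16 : ((16 : ℕ) : k) = 0 := by
    have : ((16 : ℕ) : k) = (2 : k) * 8 := by norm_num
    rw [this, h2, zero_mul]
  have h15 : ((15 : ℕ) : k) = 1 := by
    have : ((15 : ℕ) : k) = (2 : k) * 7 + 1 := by norm_num
    rw [this, h2, zero_mul, zero_add]
  have hcF : Fintype.card Fˣ = 15 := by rw [Fintype.card_units, hF]
  rw [EE_apply, sum_bruhat]
  -- the Borel part
  have hB : ∑ a : Fˣ, ∑ t : F, chi k (h a * u t) • ρ (h a * u t) d = 0 := by
    refine Finset.sum_eq_zero fun a _ => ?_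
    have h1 : ∀ t : F, chi k (h a * u t) • ρ (h a * u t) d = chi k (h a : SpecialLinearGroup (Fin 2) F) • d := by
      intro t
      have e1 : chi k (h a * u t) = chi k (h a : SpecialLinearGroup (Fin 2) F) := by
        unfold chi
        have e2 : (h a * u t).1 1 1 = (a : F)⁻¹ := by
          show (!![(a : F), 0; 0, (a : F)⁻¹] * !![1, t; 0, 1]) 1 1 = _
          rw [Matrix.mul_fin_two]; simp
        rw [e00_hu, e2]
        rfl
      rw [e1, ← apply_mul, hu, hh]
    rw [Finset.sum_congr rfl fun t _ => h1 t, Finset.sum_const, Finset.card_univ, hF, ← Nat.cast_smul_eq_nsmul k,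
      h16, zero_smul]
  rw [hB, zero_add, SS_apply]
  refine Finset.sum_congr rfl fun s _ => ?_
  have h1 : ∀ (a : Fˣ) (t : F), chi k (u s * h a * w * u t) • ρ (u s * h a * w * u t) d =
      (if t = -s then (0 : k) else 1) • ρ (u s) (ρ w d) := by
    intro a t
    have e1 : chi k (u s * h a * w * u t) = if t = -s then (0 : k) else 1 := by
      unfold chi
      rw [mat_uhwu]
      have e2 : (!![-(s * (a : F)⁻¹), a - s * (a : F)⁻¹ * t; -(a : F)⁻¹, -((a : F)⁻¹ * t)] 0 0 +
        !![-(s * (a : F)⁻¹), a - s * (a : F)⁻¹ * t; -(a : F)⁻¹, -((a : F)⁻¹ * t)] 1 1 : F) = -(a : F)⁻¹ * (s + t) := by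
        simp
        ring
      rw [e2]
      congr 1
      rw [mul_eq_zero, neg_eq_zero]
      simp only [inv_ne_zero a.ne_zero, false_or]
      rw [add_comm, eq_iff_iff]
      exact add_eq_zero_iff_eq_neg
    have e3 : (u s * h a * w * u t : SpecialLinearGroup (Fin 2) F) = u s * (w * (h a⁻¹ * u t)) := by
      rw [mul_assoc (u s * h a), mul_assoc (u s), ← mul_assoc (h a), h_w, mul_assoc w]
    rw [e1, e3, ← apply_mul, ← apply_mul, ← apply_mul, hu, hh]
  have h2' : ∀ a : Fˣ, ∑ t : F, chi k (u s * h a * w * u t) • ρ (u s * h a * w * u t) d = ρ (u s) (ρ w d) := by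
    intro a
    rw [Finset.sum_congr rfl fun t _ => h1 a t, ← Finset.sum_smul]
    have e4 : ∑ t : F, (if t = -s then (0 : k) else 1) = 1 := by
      have e5 : ∀ t : F, (if t = -s then (0 : k) else 1) = 1 - if t = -s then 1 else 0 := by
        intro t
        split <;> simp
      rw [Finset.sum_congr rfl fun t _ => e5 t, Finset.sum_sub_distrib, Finset.sum_const, Finset.card_univ, hF,
        Finset.sum_ite_eq' Finset.univ (-s), if_pos (Finset.mem_univ _), nsmul_eq_mul, h16, zero_mul, zero_sub]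
      have : (1 : k) + 1 = 0 := by rw [one_add_one_eq_two, h2]
      exact neg_eq_of_add_eq_zero_left this
    rw [e4, one_smul]
  rw [Finset.sum_congr rfl fun a _ => h2' a, Finset.sum_const, Finset.card_univ, hcF, ← Nat.cast_smul_eq_nsmul k,
    h15, one_smul]

end Borel

/-! ### the fixed vectors of an element of order 17 -/

section Fix

open Classical in
theorem count {k : Type*} [Field k] [CharP k 2] {ζ : k} (hζ : IsPrimitiveRoot ζ 17) {a d : k} (ha : a ^ 256 = a)
    (hd : d = a ^ 16) :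
    ∑ j ∈ Finset.range 17, (if a * (ζ⁻¹) ^ j + d * ζ ^ j = 0 then (0 : k) else 1) = 0 := by
  have h2 : (2 : k) = 0 := by
    have := CharP.cast_eq_zero k 2
    exact_mod_cast this
  have hadd : ∀ x : k, x + x = 0 := fun x => by rw [← two_mul, h2, zero_mul]
  have h17 : (17 : k) = 1 := by
    have : (17 : k) = 2 * 8 + 1 := by norm_num
    rw [this, h2, zero_mul, zero_add]
  by_cases h0 : a = 0
  · refine Finset.sum_eq_zero fun j _ => ?_
    rw [hd, h0]
    simp
  · have hζ0 : ζ ≠ 0 := hζ.ne_zero (by norm_num)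
    have h255 : a ^ 255 = 1 := by
      have : a * a ^ 255 = a * 1 := by rw [← pow_succ', mul_one, ha]
      exact mul_left_cancel₀ h0 this
    have h15 : ((a ^ 15)⁻¹) ^ 17 = 1 := by
      rw [inv_pow, ← pow_mul, h255, inv_one]
    obtain ⟨m, hm, hmζ⟩ := hζ.eq_pow_of_pow_eq_one h15
    -- the solution
    have key : ∀ j : ℕ, a * (ζ⁻¹) ^ j + d * ζ ^ j = 0 ↔ 2 * j % 17 = m := by
      intro j
      have e1 : a * (ζ⁻¹) ^ j + d * ζ ^ j = a * (ζ⁻¹) ^ j * (1 + a ^ 15 * ζ ^ (2 * j)) := by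
        rw [hd, mul_add, mul_one, two_mul, pow_add ζ]
        congr 1
        have e2 : (ζ⁻¹) ^ j * ζ ^ j = 1 := by rw [← mul_pow, inv_mul_cancel₀ hζ0, one_pow]
        calc a ^ 16 * ζ ^ j = a * a ^ 15 * ((ζ⁻¹) ^ j * ζ ^ j) * ζ ^ j := by rw [e2, mul_one, ← pow_succ']
          _ = a * (ζ⁻¹) ^ j * (a ^ 15 * (ζ ^ j * ζ ^ j)) := by ring
      rw [e1, mul_eq_zero]
      have e3 : ¬ a * (ζ⁻¹) ^ j = 0 := mul_ne_zero h0 (pow_ne_zero _ (inv_ne_zero hζ0))
      have e4 : (1 + a ^ 15 * ζ ^ (2 * j) = 0) ↔ ζ ^ (2 * j) = ζ ^ m := by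
        rw [hmζ]
        have h15' : a ^ 15 ≠ 0 := pow_ne_zero _ h0
        constructor
        · intro h
          have h5 : a ^ 15 * ζ ^ (2 * j) = 1 := by
            have h6 := hadd (1 : k)
            have h7 : (1 : k) + a ^ 15 * ζ ^ (2 * j) = 1 + 1 := by rw [h, h6]
            exact add_left_cancel h7
          exact eq_inv_of_mul_eq_one_right h5
        · intro h
          rw [h, mul_inv_cancel₀ h15']
          exact hadd 1
      have e5 : ζ ^ (2 * j) = ζ ^ (2 * j % 17) := (pow_mod_orderOf ζ (2 * j) ▸ hζ.eq_orderOf ▸ rfl)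
      simp only [e3, false_or]
      rw [e4, e5]
      exact ⟨fun h => hζ.pow_inj (Nat.mod_lt _ (by norm_num)) hm h, fun h => by rw [h]⟩
    have hc : ∀ m < 17, ∑ j ∈ Finset.range 17, (if 2 * j % 17 = m then 0 else 1) = 16 := by decide
    have hs : ∑ j ∈ Finset.range 17, (if a * (ζ⁻¹) ^ j + d * ζ ^ j = 0 then (0 : k) else 1) =
        ((∑ j ∈ Finset.range 17, (if 2 * j % 17 = m then 0 else 1) : ℕ) : k) := by
      rw [Nat.cast_sum]
      refine Finset.sum_congr rfl fun j _ => ?_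
      rw [show (a * (ζ⁻¹) ^ j + d * ζ ^ j = 0) = (2 * j % 17 = m) from propext (key j)]
      split <;> simp_all
    rw [hs, hc m hm]
    have : ((16 : ℕ) : k) = (2 : k) * 8 := by norm_num
    rw [this, h2, zero_mul]

end Fix

end Cfsg.Agent.H280.L16
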